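import Cfsg.Agent.Ree3.Hom
import Cfsg.Agent.ChevIsogeny.WordCheck
import Cfsg.Agent.Lib.ChevCore.GoodG2
import Cfsg.Agent.Lib.ChevCore.CertG2Table
import Cfsg.Prelude.Def_LieTwisted

/-!
An element of order seven and two involutions of the small Ree group over three elements satisfying the
five relations of the degree two special linear group over eight elements.
-/

set_option autoImplicit false

namespace Cfsg.Agent.Ree3

open Cfsg.Lie ChevIsogeny

/-- a generating word -/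
def u100 : List (ℕ × ℤ) := [(7, 1), (6, 1), (8, 1), (9, 1), (10, 0), (11, 0)]

/-- a generating word -/
def u010 : List (ℕ × ℤ) := [(7, 0), (6, 0), (8, 1), (9, 0), (10, 1), (11, 0)]

/-- a generating word -/
def u001 : List (ℕ × ℤ) := [(7, 0), (6, 0), (8, 0), (9, 1), (10, 0), (11, 1)]

/-- a generating word -/
def v100 : List (ℕ × ℤ) := [(4, -1), (5, -1), (3, -1), (2, -1), (1, 0), (0, 0)]

/-- a generating word -/
def v010 : List (ℕ × ℤ) := [(4, 0), (5, 0), (3, -1), (2, 0), (1, -1), (0, 0)]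

/-- the formal inverse of a word -/
def invW (w : List (ℕ × ℤ)) : List (ℕ × ℤ) := (w.map fun p => (p.1, -p.2)).reverse

/-- the matrix of an integral word -/
noncomputable def wm (w : List (ℕ × ℤ)) : Matrix chevG2.Idx chevG2.Idx (ZMod 3) :=
  chevG2.wordMat (ZMod 3) (w.map fun p => (p.1, (p.2 : ZMod 3)))

/-- the kernel check -/
noncomputable def chk (w v : List (ℕ × ℤ)) : Bool :=
  wordEqB chevG2 (ChevCore.fast chevG2 ChevCore.packedG2) 3 w v

theorem wm_of_chk {w v : List (ℕ × ℤ)} (h : chk w v = true) : wm w = wm v :=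
  wordMat_eq_of_check ChevCore.goodG2 ChevCore.chkLinkG2 h (ZMod 3) (by decide)

theorem wm_append (w v : List (ℕ × ℤ)) : wm (w ++ v) = wm w * wm v := by
  simp [wm, ChevalleyDatum.wordMat]

theorem wm_nil : wm [] = 1 := by simp [wm, ChevalleyDatum.wordMat]

/-- membership of the matrix of a word -/
def InG (w : List (ℕ × ℤ)) : Prop :=
  ∃ g : ↥(twistedG2 (ZMod 3) 1), ((g : GL chevG2.Idx (ZMod 3)) : Matrix chevG2.Idx chevG2.Idx (ZMod 3)) = wm w

theorem InG.append {w v : List (ℕ × ℤ)} (hw : InG w) (hv : InG v) : InG (w ++ v) := by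
  obtain ⟨g, hg⟩ := hw
  obtain ⟨g', hg'⟩ := hv
  exact ⟨g * g', by rw [wm_append, Subgroup.coe_mul, Units.val_mul, hg, hg']⟩

theorem inG_gen {w : List (ℕ × ℤ)} (hw : (w.map fun p => (p.1, (p.2 : ZMod 3))) ∈ g2Words (ZMod 3) 1)
    (h1 : chk (w ++ invW w) [] = true) : InG w := by
  have h := wm_of_chk h1
  rw [wm_append, wm_nil] at h
  exact ⟨⟨⟨wm w, wm (invW w), h, mul_eq_one_comm.1 h⟩, Subgroup.subset_closure ⟨_, hw, rfl⟩⟩, rfl⟩

theorem inG_u100 : InG u100 := inG_gen ⟨1, 0, 0, Or.inl (by decide)⟩ (by decide +kernel)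
theorem inG_u010 : InG u010 := inG_gen ⟨0, 1, 0, Or.inl (by decide)⟩ (by decide +kernel)
theorem inG_u001 : InG u001 := inG_gen ⟨0, 0, 1, Or.inl (by decide)⟩ (by decide +kernel)
theorem inG_v100 : InG v100 := inG_gen ⟨1, 0, 0, Or.inr (by decide)⟩ (by decide +kernel)
theorem inG_v010 : InG v010 := inG_gen ⟨0, 1, 0, Or.inr (by decide)⟩ (by decide +kernel)

/-- the element of order seven -/
def wh : List (ℕ × ℤ) := u100 ++ u100 ++ v100

/-- an involution -/
def we : List (ℕ × ℤ) := v100 ++ u001 ++ v010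

/-- the Weyl involution -/
def wn : List (ℕ × ℤ) := u010 ++ v010 ++ v010

theorem checks : chk (we ++ we) [] = true ∧ chk (wn ++ wn) [] = true ∧
    chk (wh ++ wh ++ wh ++ wh ++ wh ++ wh ++ wh) [] = true ∧
    chk (wn ++ wh ++ wn ++ wh) [] = true ∧
    chk (we ++ wn ++ we ++ wn ++ we) wn = true ∧
    chk (we ++ wh ++ we ++ invW wh) (wh ++ we ++ invW wh ++ we) = true ∧
    chk (we ++ wh ++ wh ++ we ++ invW (wh ++ wh)) (wh ++ wh ++ we ++ invW (wh ++ wh) ++ we) = true ∧
    chk (wh ++ wh ++ wh ++ we ++ invW (wh ++ wh ++ wh)) (wh ++ we ++ invW wh ++ we) = true ∧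
    chk (wh ++ invW wh) [] = true ∧ chk ((wh ++ wh) ++ invW (wh ++ wh)) [] = true ∧
    chk ((wh ++ wh ++ wh) ++ invW (wh ++ wh ++ wh)) [] = true := by
  refine ⟨?_, ?_, ?_, ?_, ?_, ?_, ?_, ?_, ?_, ?_, ?_⟩ <;> decide +kernel

end Cfsg.Agent.Ree3
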