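import Cfsg.Agent.Lib.Ree.SL2Hom

/-!
A homomorphism from `SL(2, 8)` out of an element of order seven and two involutions satisfying
five relations.
-/

set_option autoImplicit false

namespace Cfsg.Agent.Ree3

open scoped MatrixGroups

variable {G : Type*} [Group G]

/-- The relations. -/
structure Rel8 (h e n : G) : Prop where
  e2 : e * e = 1
  n2 : n * n = 1
  h7 : h ^ 7 = 1
  inv : n * h * n = h⁻¹
  braid : e * n * e * n * e = n
  c1 : Commute e (h * e * h⁻¹)
  c2 : Commute e (h * h * e * (h * h)⁻¹)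
  poly : h * h * h * e * (h * h * h)⁻¹ = h * e * h⁻¹ * e

/-- the power of an involution -/
def pw (e : G) (a : ZMod 2) : G := if a = 0 then 1 else e

theorem pw_add {e : G} (he : e * e = 1) (a b : ZMod 2) : pw e (a + b) = pw e a * pw e b := by
  have : ∀ a : ZMod 2, a = 0 ∨ a = 1 := by decide
  rcases this a with rfl | rfl <;> rcases this b with rfl | rfl <;>
    simp [pw, he, show (1 : ZMod 2) + 1 = 0 from rfl]

theorem pw_commute {e f : G} (h : Commute e f) (a b : ZMod 2) : Commute (pw e a) (pw f b) := by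
  unfold pw
  split_ifs <;> simp [h, Commute.one_left, Commute.one_right]

theorem exists_delta {L : Type*} [Field L] [Fintype L] (hL : Fintype.card L = 8) :
    (2 : L) = 0 ∧ ∃ d : L, d ^ 3 + d + 1 = 0 ∧ ∀ a : L, a ≠ 0 → ∃ k : ℕ, a = d ^ k := by
  have h2 : (2 : L) = 0 := by
    have h8 : (8 : L) = 0 := by
      have := Nat.cast_card_eq_zero L
      rw [hL] at this
      exact_mod_cast this
    have : (2 : L) ^ 3 = 0 := by linear_combination h8
    exact (pow_eq_zero_iff three_ne_zero).1 this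
  refine ⟨h2, ?_⟩
  obtain ⟨g, hg⟩ := IsCyclic.exists_generator (α := Lˣ)
  have hc : Nat.card Lˣ = 7 := by
    rw [Nat.card_units, Nat.card_eq_fintype_card, hL]
  have hg1 : (g : L) ≠ 1 := by
    intro h1
    have : orderOf g = 7 := by rw [orderOf_eq_card_of_forall_mem_zpowers hg, hc]
    rw [show g = 1 from Units.ext h1, orderOf_one] at this
    omega
  have h7 : (g : L) ^ 7 = 1 := by
    have : g ^ 7 = 1 := by rw [← hc]; exact pow_card_eq_one'
    simpa using congrArg Units.val this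
  have hfac : ((g : L) - 1) * (((g : L) ^ 3 + g + 1) * ((g : L) ^ 3 + g ^ 2 + 1)) = 0 := by
    linear_combination h7 + (-(g : L) ^ 3 + g ^ 4) * h2
  rcases mul_eq_zero.1 hfac with h | h
  · exact absurd (sub_eq_zero.1 h) hg1
  have hgen : ∀ u : Lˣ, (∀ v : Lˣ, v ∈ Subgroup.zpowers u) → ∀ a : L, a ≠ 0 → ∃ k : ℕ, a = (u : L) ^ k := by
    intro u hu a ha
    obtain ⟨k, hk⟩ := mem_powers_iff_mem_zpowers.2 (hu (Units.mk0 a ha))
    exact ⟨k, by simpa using (congrArg Units.val hk).symm⟩
  rcases mul_eq_zero.1 h with h | h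
  · exact ⟨g, h, hgen g hg⟩
  · refine ⟨((g⁻¹ : Lˣ) : L), ?_, hgen g⁻¹ fun v => by rw [Subgroup.zpowers_inv]; exact hg v⟩
    have hi : ((g⁻¹ : Lˣ) : L) * g = 1 := Units.inv_mul g
    have : (((g⁻¹ : Lˣ) : L) ^ 3 + (g⁻¹ : Lˣ) + 1) * (g : L) ^ 3 = 0 := by
      linear_combination h + (((g⁻¹ : Lˣ) : L) ^ 2 * (g : L) ^ 2 + ((g⁻¹ : Lˣ) : L) * g + 1 + (g : L) ^ 2) * hi
    exact (mul_eq_zero.1 this).resolve_right (pow_ne_zero _ g.ne_zero)

variable {L : Type*} [Field L] [Fintype L]

/-- Existence of the homomorphism. -/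
theorem exists_hom (hL : Fintype.card L = 8) {h e n : G} (R : Rel8 h e n) :
    ∃ φ : SL(2, L) →* G, e ∈ φ.range := by
  classical
  obtain ⟨h2, d, hd, hk⟩ := exists_delta hL
  have hd0 : d ≠ 0 := fun h => by simp [h] at hd
  have hd1 : d ≠ 1 := fun h => by
    rw [h] at hd
    exact one_ne_zero (show (1 : L) = 0 by linear_combination hd - h2)
  have hneg : ∀ t : L, -t = t := fun t => by linear_combination (-t) * h2
  -- coordinates
  let c : ZMod 2 → L := fun a => if a = 0 then 0 else 1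
  have hc : ∀ a b : ZMod 2, c (a + b) = c a + c b := by
    intro a b
    have : ∀ a : ZMod 2, a = 0 ∨ a = 1 := by decide
    rcases this a with rfl | rfl <;> rcases this b with rfl | rfl <;>
      simp [c, show (1 : ZMod 2) + 1 = 0 from rfl]
    linear_combination -h2
  let ι : ZMod 2 × ZMod 2 × ZMod 2 →+ L :=
    AddMonoidHom.mk' (fun v => c v.1 + c v.2.1 * d + c v.2.2 * d ^ 2) fun v w => by
      simp only [Prod.fst_add, Prod.snd_add, hc]; ring
  have hinj : Function.Injective ι := by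
    rw [injective_iff_map_eq_zero]
    rintro ⟨a, b, b'⟩ hv
    have : ∀ a : ZMod 2, a = 0 ∨ a = 1 := by decide
    rcases this a with rfl | rfl <;> rcases this b with rfl | rfl <;> rcases this b' with rfl | rfl <;>
      simp [ι, c] at hv ⊢
    all_goals
      have n101 : 1 + d ^ 2 ≠ 0 := fun hz =>
        one_ne_zero (show (1 : L) = 0 by linear_combination hd - d * hz)
      have n110 : 1 + d ≠ 0 := fun hz => hd1 (by linear_combination hz - h2)
      have n011 : d + d ^ 2 ≠ 0 := fun hz => n110 ((mul_eq_zero.1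
        (show d * (1 + d) = 0 by linear_combination hz)).resolve_left hd0)
      have n111 : 1 + d + d ^ 2 ≠ 0 := fun hz => n101 (by linear_combination hd - d * hz + d ^ 2 * h2)
      first | exact hd0 hv | exact n101 hv | exact n110 hv | exact n011 hv | exact n111 hv
  have hbij : Function.Bijective ι := by
    rw [Fintype.bijective_iff_injective_and_card]
    exact ⟨hinj, by simp [hL]⟩
  let ψ : L ≃+ ZMod 2 × ZMod 2 × ZMod 2 := (AddEquiv.ofBijective ι hbij).symm
  set e1 := h * e * h⁻¹ with he1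
  set e2 := h * h * e * (h * h)⁻¹ with he2
  have i1 : e1 * e1 = 1 := by
    simp [he1, mul_assoc, ← mul_assoc e e, R.e2]
  have i2 : e2 * e2 = 1 := by
    simp [he2, mul_assoc, ← mul_assoc e e, R.e2]
  have c12 : Commute e1 e2 := by
    have := R.c1.map (MulAut.conj h).toMonoidHom
    simpa [he1, he2, mul_assoc] using this
  have c1' : Commute e e1 := R.c1
  have c2' : Commute e e2 := R.c2
  let xv : ZMod 2 × ZMod 2 × ZMod 2 → G := fun v => pw e v.1 * pw e1 v.2.1 * pw e2 v.2.2
  have hxv : ∀ v w, xv (v + w) = xv v * xv w := by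
    intro v w
    simp only [xv, Prod.fst_add, Prod.snd_add, pw_add R.e2, pw_add i1, pw_add i2]
    have q1 := pw_commute c1' w.1 v.2.1
    have q2 := pw_commute c2' w.1 v.2.2
    have q3 := pw_commute c12 w.2.1 v.2.2
    calc pw e v.1 * pw e w.1 * (pw e1 v.2.1 * pw e1 w.2.1) * (pw e2 v.2.2 * pw e2 w.2.2)
        = pw e v.1 * (pw e w.1 * pw e1 v.2.1) * (pw e1 w.2.1 * pw e2 v.2.2) * pw e2 w.2.2 := by
          simp only [mul_assoc]
      _ = pw e v.1 * (pw e1 v.2.1 * pw e w.1) * (pw e2 v.2.2 * pw e1 w.2.1) * pw e2 w.2.2 := by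
          rw [q1.eq, q3.eq]
      _ = pw e v.1 * pw e1 v.2.1 * (pw e w.1 * pw e2 v.2.2) * (pw e1 w.2.1 * pw e2 w.2.2) := by
          simp only [mul_assoc]
      _ = _ := by rw [q2.eq]; simp only [mul_assoc]
  let x : L → G := fun t => xv (ψ t)
  have xadd : ∀ s t, x (s + t) = x s * x t := fun s t => by simp only [x, map_add, hxv]
  have hψ : ∀ v, ψ (ι v) = v := fun v => (AddEquiv.ofBijective ι hbij).symm_apply_apply v
  have x1 : x 1 = e := by
    have := hψ (1, 0, 0)
    simp [ι, c] at this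
    simp [x, this, xv, pw]
  have xd : ∀ t, x (d * t) = h * x t * h⁻¹ := by
    intro t
    obtain ⟨⟨a, b, b'⟩, rfl⟩ := hbij.2 t
    have e3 : d * ι (a, b, b') = ι (b', a + b', b) := by
      simp only [ι, AddMonoidHom.mk'_apply, hc]
      linear_combination c b' * hd + (-c b' - c b' * d) * h2
    simp only [x, e3, hψ]
    have key : pw e b' * pw e1 (a + b') * pw e2 b = h * (pw e a * pw e1 b * pw e2 b') * h⁻¹ := by
      rw [pw_add i1]
      have conj_pw : ∀ (f : G) (z : ZMod 2), h * pw f z * h⁻¹ = pw (h * f * h⁻¹) z := by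
        intro f z; unfold pw; split_ifs <;> simp
      have hc2 : h * e1 * h⁻¹ = e2 := by simp [he1, he2, mul_assoc]
      have hc3 : h * e2 * h⁻¹ = e1 * e := by
        rw [← R.poly]; simp [he2, mul_assoc]
      have e10 : Commute e1 e := c1'.symm
      have hpp : pw (e1 * e) b' = pw e1 b' * pw e b' := by unfold pw; split_ifs <;> simp
      calc pw e b' * (pw e1 a * pw e1 b') * pw e2 b
          = pw e1 a * pw e2 b * (pw e1 b' * pw e b') := by
            have k1 := pw_commute e10 a b'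
            have k2 := pw_commute c12 b' b
            have k3 := pw_commute c2' b' b
            rw [← mul_assoc (pw e b'), ← k1.eq]
            have k4 := (pw_commute e10 b' b').symm
            calc pw e1 a * pw e b' * pw e1 b' * pw e2 b
                = pw e1 a * (pw e b' * pw e1 b' * pw e2 b) := by simp only [mul_assoc]
              _ = pw e1 a * (pw e1 b' * pw e b' * pw e2 b) := by rw [k4.eq]
              _ = pw e1 a * (pw e2 b * (pw e1 b' * pw e b')) := by
                rw [(k2.mul_left k3).eq]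
              _ = _ := by simp only [mul_assoc]
        _ = pw (h * e * h⁻¹) a * pw (h * e1 * h⁻¹) b * pw (h * e2 * h⁻¹) b' := by
            rw [hc2, hc3, hpp]
        _ = h * pw e a * h⁻¹ * (h * pw e1 b * h⁻¹) * (h * pw e2 b' * h⁻¹) := by
            rw [conj_pw, conj_pw, conj_pw]
        _ = _ := by group
    exact key
  have xdk : ∀ (k : ℕ) t, x (d ^ k * t) = h ^ k * x t * (h ^ k)⁻¹ := by
    intro k
    induction k with
    | zero => simp
    | succ k ih =>
      intro t
      rw [pow_succ', mul_assoc, xd, ih, pow_succ']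
      group
  have xdi : ∀ (k : ℕ) t, x ((d ^ k)⁻¹ * t) = (h ^ k)⁻¹ * x t * h ^ k := by
    intro k t
    have h1 := xdk k ((d ^ k)⁻¹ * t)
    rw [mul_inv_cancel_left₀ (pow_ne_zero _ hd0)] at h1
    rw [h1]; group
  have ninv : n⁻¹ = n := inv_eq_of_mul_eq_one_left R.n2
  have nh : ∀ k : ℕ, n * h ^ k * n = (h ^ k)⁻¹ := by
    intro k
    have : n * h ^ k * n⁻¹ = (n * h * n⁻¹) ^ k := (conj_pow).symm
    rw [ninv] at this
    rw [this, R.inv, inv_pow]
  let y : L → G := fun t => n * x t * n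
  have hy' : ∀ (k : ℕ), y ((d ^ k)⁻¹) = h ^ k * n * e * n * (h ^ k)⁻¹ := by
    intro k
    have h1 := xdi k 1
    rw [mul_one, x1] at h1
    simp only [y, h1]
    calc n * ((h ^ k)⁻¹ * e * h ^ k) * n
        = (n * (h ^ k)⁻¹ * n⁻¹) * (n * e * n) * (n⁻¹ * h ^ k * n) := by group
      _ = _ := by
        have a := congrArg (fun z => z⁻¹) (nh k)
        simp only [mul_inv_rev, ninv, inv_inv, ← mul_assoc] at a
        rw [ninv, a, nh k]
        group
  have hnw : ∀ k : ℕ, ReeSL2.nw x y (d ^ k) = h ^ (2 * k) * n := by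
    intro k
    have h1 := xdk k 1
    rw [mul_one, x1] at h1
    rw [ReeSL2.nw, hneg, hy' k, h1]
    calc h ^ k * e * (h ^ k)⁻¹ * (h ^ k * n * e * n * (h ^ k)⁻¹) * (h ^ k * e * (h ^ k)⁻¹)
        = h ^ k * (e * n * e * n * e) * (h ^ k)⁻¹ := by group
      _ = h ^ k * n * (h ^ k)⁻¹ := by rw [R.braid]
      _ = h ^ k * h ^ k * n := by
        rw [← nh k, ← mul_assoc (h ^ k * n), ← mul_assoc (h ^ k * n), mul_assoc (h ^ k) n n, R.n2,
          mul_one]
      _ = _ := by rw [two_mul, pow_add]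
  have hnw1 : ReeSL2.nw x y 1 = n := by simpa using hnw 0
  have hhd : ∀ k : ℕ, ReeSL2.hd x y (d ^ k) = h ^ (2 * k) := by
    intro k
    rw [ReeSL2.hd, hneg, hnw1, hnw, mul_assoc, R.n2, mul_one]
  have hr : ReeSL2.RankRel x y := by
    refine ⟨xadd, ?_, ?_, ?_, ?_⟩
    · intro a b ha hb
      obtain ⟨i, rfl⟩ := hk a ha
      obtain ⟨j, rfl⟩ := hk b hb
      rw [← pow_add, hhd, hhd, hhd, Nat.mul_add, pow_add]
    · intro a t ha
      obtain ⟨i, rfl⟩ := hk a ha
      rw [hhd, ← pow_mul, mul_comm i 2, xdk]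
    · intro a t ha
      obtain ⟨i, rfl⟩ := hk a ha
      rw [hhd, ← pow_mul, mul_comm i 2]
      simp only [y, xdi]
      calc h ^ (2 * i) * (n * x t * n) * (h ^ (2 * i))⁻¹
          = (h ^ (2 * i) * n) * x t * (n * (h ^ (2 * i))⁻¹) := by group
        _ = _ := by
          have a := nh (2 * i)
          have b : h ^ (2 * i) * n = n * (h ^ (2 * i))⁻¹ := by
            rw [← a, ← mul_assoc, ← mul_assoc, R.n2, one_mul]
          have b' : n * (h ^ (2 * i))⁻¹ = h ^ (2 * i) * n := b.symm
          rw [b]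
          nth_rewrite 2 [b']
          group
    · intro t
      rw [hnw1, hneg, ninv]
  exact ⟨ReeSL2.hom hr, ⟨ReeSL2.upper 1, by rw [ReeSL2.hom_upper, x1]⟩⟩

end Cfsg.Agent.Ree3
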