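import Cfsg.Agent.Ree3.Elements

/-!
The chosen involution is not the identity.
-/

set_option autoImplicit false

namespace Cfsg.Agent.Ree3

open Cfsg.Lie ChevIsogeny Cfsg.Agent.ChevCore

theorem vec_apply (w : List (ℕ × ℤ)) (hw : ∀ p ∈ w, p.1 < chevG2.nroots) (L : SVec) :
    vec chevG2 (ZMod 3) (applyWord chevG2 (std chevG2) 3 w L) = Matrix.mulVec (wm w) (vec chevG2 (ZMod 3) L) := by
  induction w with
  | nil => simp [applyWord, vec_normVec (R := ZMod 3) (show ((3 : ℕ) : ZMod 3) = 0 from rfl), wm_nil]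
  | cons p w ih =>
    have ih' := ih fun q hq => hw q (List.mem_cons_of_mem _ hq)
    simp only [applyWord, List.foldr_cons, forceS_eq, wm, ChevalleyDatum.wordMat, List.map_cons,
      List.prod_cons] at ih' ⊢
    rw [vec_normVec (R := ZMod 3) (show ((3 : ℕ) : ZMod 3) = 0 from rfl), vec_applyX_cast, ih', Matrix.mulVec_mulVec,
      goodG2.x_eq (ZMod 3) (hw p (List.mem_cons_self ..))]

theorem we_ne : wm we ≠ 1 := by
  intro h
  have hb : ∀ b : chevG2.Idx, ∀ a : chevG2.Idx,
      vec chevG2 (ZMod 3) (applyWord chevG2 (std chevG2) 3 we [(code chevG2 b, 1)]) a =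
        if a = b then 1 else 0 := by
    intro b a
    rw [vec_apply we (by decide +kernel), h, Matrix.one_mulVec, vec_basis, Pi.single_apply]
  rw [← (fast_eq_std chkLinkG2).1] at hb
  have : ¬ ∀ a : chevG2.Idx,
      vec chevG2 (ZMod 3) (applyWord chevG2 (fast chevG2 packedG2) 3 we [(code chevG2 (Sum.inr (⟨7, by decide +kernel⟩ : Fin chevG2.nroots)), 1)]) a =
        if a = Sum.inr (⟨7, by decide +kernel⟩ : Fin chevG2.nroots) then 1 else 0 := by decide +kernel
  exact this (hb (Sum.inr (⟨7, by decide +kernel⟩ : Fin chevG2.nroots)))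

end Cfsg.Agent.Ree3
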